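import Mathlib
import Cfsg.Agent.Lib.T35.Defs
import Cfsg.Agent.S4503
import Cfsg.Agent.S4504
import Cfsg.Agent.S4705

/-! Project T35, package BQ (proof in `plans/T35.md`). -/

set_option autoImplicit false

namespace CfsgLib.T35

open Cfsg CfsgLib.Char CfsgLib.Block Subgroup
open CfsgLib.DefectOne CfsgLib.DefectOne.B43 CfsgLib.Tuan CfsgLib.ChTab

variable {G : Type*} [Group G] [Finite G] [IsSimpleGroup G]

theorem bq_odd {a q d : ℕ} (hq : q.Prime) (h : d ∣ 2 ^ a * 3 * 5 * q) (h1 : ¬ q ∣ d) (h2 : Odd d)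
    (h3 : 1 < d) : d = 3 ∨ d = 5 ∨ d = 15 := by
  have h4 : d ∣ 15 := by
    have := ((Nat.Prime.coprime_iff_not_dvd hq).2 h1).symm.dvd_of_dvd_mul_right h
    rw [mul_assoc] at this
    exact (Nat.Coprime.pow_right a (Nat.coprime_two_right.2 h2)).dvd_of_dvd_mul_left this
  have := Nat.le_of_dvd (by norm_num) h4
  interval_cases d <;> omega

theorem bq_seven {a q : ℕ} (hq : q = 13 ∨ q = 29) : ¬ 14 ∣ 2 ^ a * 3 * 5 * q := fun h => by
  have h7 : Nat.Coprime 7 (2 ^ a * 3 * 5 * q) :=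
    (((Nat.Coprime.pow_right a (by norm_num)).mul_right (by norm_num)).mul_right (by norm_num)).mul_right
      (by rcases hq with rfl | rfl <;> norm_num)
  exact absurd (h7.eq_one_of_dvd (Dvd.dvd.trans (by norm_num) h)) (by norm_num)

omit [Finite G] [IsSimpleGroup G] in
theorem bq_quot (h : center G = ⊥) : Nonempty (G ≃* G ⧸ center G) :=
  ⟨((QuotientGroup.quotientMulEquivOfEq h).trans QuotientGroup.quotientBot).symm⟩

theorem bq (hG : ¬ IsMulCommutative G) {a q : ℕ} (hq : q.Prime) (h11 : 11 ≤ q)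
    (hcard : Nat.card G = 2 ^ a * 3 * 5 * q) : Concl G := by
  classical
  haveI : Fact q.Prime := ⟨hq⟩
  have hna : ∃ a b : G, a * b ≠ b * a := by
    by_contra! h
    exact hG ⟨⟨h⟩⟩
  have hd : q ∣ Nat.card G := hcard ▸ Dvd.intro_left _ rfl
  have hsq : ¬ q ^ 2 ∣ Nat.card G := by
    rw [hcard, pow_two, Nat.mul_dvd_mul_iff_right hq.pos, hq.dvd_mul, hq.dvd_mul]
    rintro ((h | h) | h)
    · exact absurd (Nat.le_of_dvd two_pos (hq.dvd_of_dvd_pow h)) (by omega)
    · exact absurd (Nat.le_of_dvd three_pos h) (by omega)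
    · exact absurd (Nat.le_of_dvd (by norm_num) h) (by omega)
  obtain ⟨x, hs⟩ := exists_syl hd hsq
  obtain ⟨ζ, hζ, ⟨D⟩⟩ := exists_data hs
  have hZ := center_eq_bot hna
  have hnn : ∀ H : Subgroup G, H.Normal → Nat.card H ≠ q := fun H hH e => by
    rcases hH.eq_bot_or_eq_top with rfl | rfl
    · rw [card_bot] at e; omega
    · rw [card_top] at e
      exact hG (isCyclic_of_prime_card e).isMulCommutative
  have e1 := ee_dvd hs
  have e2 := ee_ne_one_of_perfect hs (commutator_eq_top hna)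
  have e3 : ee x ∣ Nat.card G := card_eq_mul hs ▸ (dvd_mul_left _ _).mul_right _
  have e4 := ee_pos x
  have e5 := Nat.le_of_dvd (by omega) e1
  have ev : ∀ χ ∈ D.X.erase (irrOne G), Even (D.δ χ * dg χ) := fun χ m => by
    obtain ⟨m1, m2⟩ := Finset.mem_erase.1 m
    refine Even.mul_left (Int.even_coe_nat _ |>.2 (Nat.not_odd_iff_even.1 fun o => ?_)) _
    have h := (D.X_deg χ m2).dvd
    have key : ∀ n : ℤ, (q : ℤ) ∣ n → 0 < n → n ≤ 16 → n % 2 = 0 → False := fun n h1 h2 h3 h4 => by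
      have h5 := Int.le_of_dvd h2 h1
      obtain ⟨c, rfl⟩ := h1
      have h6 := hq.eq_two_or_odd
      have h7 : (11 : ℤ) ≤ q := by exact_mod_cast h11
      have : c = 1 := by
        have : 0 < c := by nlinarith
        nlinarith
      subst this
      omega
    rcases bq_odd hq (hcard ▸ dg_dvd χ) (not_dvd_of_X D m2) o (one_lt_dg hna m1) with e | e | e <;>
      rcases D.δ_sign χ m2 with f | f <;> rw [show charDegree (χ : G → ℂ) = _ from e, f] at h <;>
      exact key _ (dvd_neg.2 h) (by norm_num) (by norm_num) (by norm_num)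
  have hdg := Tuan.deg_eq' D
  have hy := (D.Y_deg 1).dvd
  rw [deg_Y, card_U D hs] at hy
  have zo : Odd (z0 D) := by
    have := (Finset.even_sum _ ev).one_add
    rw [← hdg] at this
    exact (Int.odd_coe_nat _).1 (Int.odd_mul.1 this).2
  have zq : ¬ q ∣ z0 D := fun h => by
    have : (q : ℤ) ∣ ee x := by
      have h1 := (dvd_sub_left (Int.natCast_dvd_natCast.2 h)).1 hy
      rcases D.ε_sign with f | f <;> rw [f] at h1 <;> simpa using h1
    exact absurd (Nat.le_of_dvd e4 (Int.natCast_dvd_natCast.1 this)) (by omega)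
  have z1 : 1 < z0 D := deg_Y D 1 ▸ one_lt_dg hna (Y_ne_one D 1)
  have hf : ∀ g, (D.Y 1 : G → ℂ) g = (D.Y 1 : G → ℂ) 1 → g = 1 := fun g => eq_one_of_eq (Y_ne_one D 1)
  have hb := Cfsg.Agent.S4503.result q hq hd hsq hnn _ (irr_isCharacter (D.Y 1)) hf
  have hc := Cfsg.Agent.S4504.result q hq hd hsq hnn _ (irr_isCharacter (D.Y 1)) hf
  rw [deg_Y] at hb hc
  obtain ⟨ψ⟩ := bq_quot hZ
  rcases bq_odd hq (hcard ▸ z0_dvd_card D) zq zo z1 with z | z | z <;> rw [z] at hb hc hy hdg
  · omega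
  · obtain rfl : q = 11 := by omega
    obtain ⟨φ⟩ := hc rfl
    exact .inl ⟨ZMod 11, inferInstance, inferInstance, by simp, ⟨ψ.trans φ⟩⟩
  have hq' : q = 11 ∨ q = 13 ∨ q = 17 ∨ q = 19 ∨ q = 23 ∨ q = 29 ∨ q = 31 := by
    interval_cases q <;> first | omega | norm_num at hq
  rcases hq' with rfl | rfl | rfl | rfl | rfl | rfl | rfl
  · exfalso
    rcases D.ε_sign with f | f <;> rw [f] at hy <;> interval_cases ee x <;> omega
  · exfalso
    have he : ee x = 2 ∧ D.ε = 1 := by
      rcases D.ε_sign with f | f <;> rw [f] at hy ⊢ <;> interval_cases ee x <;> omega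
    obtain ⟨χ, hχ⟩ := Finset.card_eq_one.1 (show (D.X.erase (irrOne G)).card = 1 by
      have := card_erase D hs; omega)
    rw [hχ, Finset.sum_singleton, he.2] at hdg
    have h14 : dg χ = 14 := by
      rcases D.δ_sign χ (Finset.mem_erase.1 (hχ ▸ Finset.mem_singleton_self χ)).2 with f | f <;>
        rw [f] at hdg <;> omega
    exact bq_seven (.inl rfl) (h14 ▸ hcard ▸ dg_dvd χ)
  · obtain ⟨P, hP⟩ := hs.exists_sylow
    have cP : Nat.card P = 17 := card_sylow_eq_p hs P
    obtain ⟨b, F, _, _, h1, h2, ⟨φ⟩⟩ := Cfsg.Agent.S4705.result 17 (by norm_num) P cP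
      (fun n => hnn _ n cP) _ (D.Y 1).2 hf (by rw [deg_Y, z])
    haveI : Unique (center G) := hZ ▸ inferInstanceAs (Unique (⊥ : Subgroup G))
    have φ' := φ.trans MulEquiv.prodUnique
    have hZ' : center (Matrix.SpecialLinearGroup (Fin 2) F) = ⊥ := eq_bot_iff.2 fun z hz => by
      have : φ'.symm z ∈ center G := mem_center_iff.2 fun g => φ'.injective (by
        simpa using mem_center_iff.1 hz (φ' g))
      rw [hZ, mem_bot] at this
      simpa using congrArg φ' this
    obtain ⟨ψ'⟩ := bq_quot hZ'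
    exact .inl ⟨F, inferInstance, inferInstance, by omega, ⟨φ'.trans ψ'⟩⟩
  · exfalso
    rcases D.ε_sign with f | f <;> rw [f] at hy <;> interval_cases ee x <;> omega
  · exfalso
    rcases D.ε_sign with f | f <;> rw [f] at hy <;> interval_cases ee x <;> omega
  · exfalso
    have he : ee x = 14 := by
      rcases D.ε_sign with f | f <;> rw [f] at hy <;> interval_cases ee x <;> omega
    exact bq_seven (.inr rfl) (he ▸ hcard ▸ e3)
  · obtain ⟨φ⟩ := hc rfl
    exact .inl ⟨ZMod 31, inferInstance, inferInstance, by simp, ⟨ψ.trans φ⟩⟩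

end CfsgLib.T35
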