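import Mathlib
import Cfsg.Agent.Lib.T35.Defs
import Cfsg.Agent.Lib.T35.Blk
import Cfsg.Agent.Lib.ChTab.Int

/-! Project T35, package CB3 (proof in `plans/T35.md`). -/

set_option autoImplicit false

namespace CfsgLib.T35

open Cfsg CfsgLib.Char CfsgLib.Block Subgroup
open CfsgLib.DefectOne CfsgLib.DefectOne.B43 CfsgLib.Tuan CfsgLib.ChTab

variable {G : Type*} [Group G] [Finite G] [IsSimpleGroup G]

omit [Finite G] [IsSimpleGroup G] in
theorem cb3_na (hG : ¬ IsMulCommutative G) : ∃ a b : G, a * b ≠ b * a := by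
  by_contra! h
  exact hG ⟨⟨h⟩⟩

theorem cb3_mk (hna : ∃ a b : G, a * b ≠ b * a) {x : G} (hx : orderOf x = 3) {A B : IrrCharacter G}
    (h1 : A ≠ irrOne G) (hA : ∀ g, 3 ∣ orderOf g → (A : G → ℂ) g = 1)
    (hB : ∀ g, 3 ∣ orderOf g → (B : G → ℂ) g = -1)
    (hr : ∀ g, ¬ 3 ∣ orderOf g → (B : G → ℂ) g = (A : G → ℂ) g + 1)
    (ho : ∀ φ : IrrCharacter G, (∀ g, 3 ∣ orderOf g → (φ : G → ℂ) g = 1) → φ = irrOne G ∨ φ = A ∨ φ = B) :
    ∃ (α β : G → ℤ) (n : ℕ), B3 α β n := by
  have hd := one_lt_dg hna h1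
  have hint : ∀ g, ∃ n : ℤ, (A : G → ℂ) g = n := fun g =>
    exists_int_of_pow_eq (isGenChar_of_isIrr A.2) g fun k hk => by
      have hs : ∀ g, 3 ∣ orderOf g → (A : G → ℂ) (g ^ k) = 1 := fun g hg =>
        hA _ (by rwa [(Nat.Coprime.coprime_dvd_left (orderOf_dvd_natCard g) hk.symm).orderOf_pow])
      rcases ho ⟨_, isIrr_pow_of_coprime A.2 hk⟩ hs with e | e | e
      · have := congrFun (congrArg Subtype.val e) 1
        simp only [one_pow, irrOne_apply] at this
        rw [← dg_cast] at this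
        exact absurd (by exact_mod_cast this) hd.ne'
      · exact congrFun (congrArg Subtype.val e) g
      · have := congrFun (congrArg Subtype.val e) x
        simp only at this
        rw [hs x (hx ▸ dvd_rfl), hB x (hx ▸ dvd_rfl)] at this
        norm_num at this
  choose α hα using hint
  have e1 : (fun g => (α g : ℂ)) = A := funext fun g => (hα g).symm
  have e2 : (fun g => ((if 3 ∣ orderOf g then -1 else α g + 1 : ℤ) : ℂ)) = B := funext fun g => by
    split_ifs with h
    · rw [hB g h]; simp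
    · rw [hr g h, hα]; simp
  refine ⟨α, fun g => if 3 ∣ orderOf g then -1 else α g + 1, dg A, e1 ▸ A.2, e2 ▸ B.2, ?_, hd, ?_,
    fun g h => if_neg h, fun g h => ?_, fun g h => if_pos h⟩
  · have := dg_cast A
    rw [hα] at this
    exact_mod_cast this.symm
  · have := modEq_of_val (χ := A) Nat.prime_three ⟨1, hx⟩ (n := 1) (by rw [hA x (hx ▸ dvd_rfl)]; simp)
    omega
  · have := hA g h
    rw [hα] at this
    exact_mod_cast this

theorem exists_b3 (hG : ¬ IsMulCommutative G) (h3 : 3 ∣ Nat.card G) (h9 : ¬ 9 ∣ Nat.card G) :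
    ∃ (α β : G → ℤ) (n : ℕ), B3 α β n := by
  classical
  haveI : Fact (Nat.Prime 3) := ⟨Nat.prime_three⟩
  have hna := cb3_na hG
  obtain ⟨x, hs⟩ := exists_syl h3 h9
  obtain ⟨ζ, hζ, ⟨D⟩⟩ := exists_data hs
  have he : ee x = 2 := ((Nat.dvd_prime Nat.prime_two).1 (ee_dvd hs)).resolve_left
    (ee_ne_one_of_perfect hs (commutator_eq_top hna))
  have hY : Ys D = {D.Y 1} := by
    have := card_Ys_mul D
    rw [card_U D hs, he] at this
    obtain ⟨θ, e⟩ := Finset.card_eq_one.1 (show (Ys D).card = 1 by omega)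
    have m := Y_mem_Ys D 1
    rw [e, Finset.mem_singleton] at m
    rw [e, m]
  obtain ⟨χ, hχ⟩ := Finset.card_eq_one.1 (show (D.X.erase (irrOne G)).card = 1 by
    have := card_erase D hs; omega)
  obtain ⟨χ1, χX⟩ := Finset.mem_erase.1 (hχ ▸ Finset.mem_singleton_self χ)
  have sY : ∀ g, 3 ∣ orderOf g → (D.Y 1 : G → ℂ) g = -D.ε := fun g hg => by
    obtain ⟨k, hk⟩ := hs.exists_conj_mem_CC hg
    obtain ⟨y, hy, e⟩ := hs.exists_val_mul hk
    have n0 := (hs.pi_ne_zero_iff hk).2 (by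
      rwa [← MulAut.conj_apply, MulEquiv.orderOf_eq])
    have := sum_Ys D hζ (Units.mk0 _ n0) (mem_CC.1 (hs.mem_KK.1 hy).1) (hs.mem_KK.1 hy).2
    rw [hY, Finset.sum_singleton, Units.val_mk0, ← e] at this
    rw [← this]
    exact val_of_isConj _ (isConj_iff.2 ⟨k, rfl⟩)
  have rY : ∀ g, ¬ 3 ∣ orderOf g → (D.ε : ℂ) * (D.Y 1 : G → ℂ) g = 1 + D.δ χ * (χ : G → ℂ) g :=
    fun g hg => by
      rw [D.reg_eq 1 g hg, ← Finset.add_sum_erase _ _ D.one_mem, hχ, Finset.sum_singleton, D.δ_one,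
        irrOne_apply]
      simp
  have ho : ∀ φ : IrrCharacter G, (∀ g, 3 ∣ orderOf g → (φ : G → ℂ) g = 1) →
      φ = irrOne G ∨ φ = χ ∨ φ = D.Y 1 := fun φ hφ => by
    by_contra! h
    have := D.other φ (fun m => h.2.1 (Finset.mem_singleton.1 (hχ ▸ Finset.mem_erase.2 ⟨h.1, m⟩)))
      (fun a e => h.2.2 (Finset.mem_singleton.1 (hY ▸ e ▸ Y_mem_Ys D a))) 1
    rw [finsum_mem_congr rfl fun y hy => hφ _ (dvd_orderOf_pow_mul hs 1 hy.1 hy.2),
      finsum_mem_eq_finite_toFinset_sum _ (Set.toFinite _), Finset.sum_const, nsmul_eq_mul, mul_one,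
      Nat.cast_eq_zero, Finset.card_eq_zero, Set.Finite.toFinset_eq_empty] at this
    exact Set.eq_empty_iff_forall_notMem.1 this 1 ⟨Commute.one_right x, not_dvd_orderOf_one⟩
  have hd := deg_eq' D
  rw [hχ, Finset.sum_singleton] at hd
  have d1 := one_lt_dg hna χ1
  have d2 := z0_pos D
  rcases D.δ_sign χ χX with hδ | hδ <;> rcases D.ε_sign with hε | hε <;> rw [hδ, hε] at hd
  · refine cb3_mk hna hs.ord χ1 (fun g hg => by rw [D.X_val χ χX g hg, hδ]; simp)
      (fun g hg => by rw [sY g hg, hε]; simp) (fun g hg => ?_) ho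
    have := rY g hg
    rw [hδ, hε] at this
    push_cast at this
    linear_combination this
  · omega
  · omega
  · refine cb3_mk hna hs.ord (Y_ne_one D 1) (fun g hg => by rw [sY g hg, hε]; simp)
      (fun g hg => by rw [D.X_val χ χX g hg, hδ]; simp) (fun g hg => ?_) fun φ h => by
        have := ho φ h; tauto
    have := rY g hg
    rw [hδ, hε] at this
    push_cast at this
    linear_combination this

/-- There is no simple group of order `2 ^ a * 105`. -/
theorem q7 (hG : ¬ IsMulCommutative G) {a : ℕ} (hcard : Nat.card G = 2 ^ a * 3 * 5 * 7)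
    {α β : G → ℤ} (h : B3 α β 7) : False := by
  classical
  haveI : Fact (Nat.Prime 5) := ⟨Nat.prime_five⟩
  obtain ⟨x, hs⟩ := exists_syl (p := 5) (G := G) (hcard ▸ Dvd.intro_left _ (by ring : 2 ^ a * 21 * 5 = _))
    (by
      rw [hcard, show 2 ^ a * 3 * 5 * 7 = 5 * (2 ^ a * 21) by ring, pow_two,
        Nat.mul_dvd_mul_iff_left (by norm_num)]
      exact (Nat.Prime.coprime_iff_not_dvd Nat.prime_five).1
        ((Nat.Coprime.pow_right a (by norm_num)).mul_right (by norm_num)))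
  obtain ⟨ζ, hζ, ⟨D⟩⟩ := exists_data hs
  have cA := isCharacter_of_isIrr h.irrA
  have v5 : ∀ w, orderOf w = 5 → α w = 2 := fun w hw => by
    obtain ⟨m, e, hm⟩ := eig_val Nat.prime_five cA hw (v := α w) (n := 7) rfl (by simp [h.one])
    have := abs_lt hG h.irrA (z := w) (fun e => by simp [e] at hw) (v := α w) (n := 7) rfl (by simp [h.one])
      (by norm_num)
    rw [_root_.abs_lt] at this
    omega
  obtain ⟨M, hM⟩ := exists_isPModular' Nat.prime_five
  let χ : Fin 2 → IrrCharacter G := ![⟨_, h.irrA⟩, ⟨_, h.irrB⟩]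
  have key := part_eq_zero hM χ ![1, -1] (fun k => if χ k ∈ principalBlock M G then 1 else 0)
    (fun k => by by_cases m : χ k ∈ principalBlock M G <;> simp [m]) (u := x) (z := x)
    ⟨1, mul_one x, Commute.one_right x, ⟨1, hs.ord⟩, not_dvd_orderOf_one⟩ (by
      rintro g w ⟨y, rfl, c, -, -⟩ hw
      have ow : orderOf w = 5 := by
        obtain ⟨k, rfl⟩ := isConj_iff.1 hw
        rw [← MulAut.conj_apply, MulEquiv.orderOf_eq, hs.ord]
      have n3 : ¬ 3 ∣ orderOf (w * y) := fun h3 => by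
        have y3 : 3 ∣ orderOf y := ((Nat.Prime.dvd_mul Nat.prime_three).1
          (h3.trans c.orderOf_mul_dvd_mul_orderOf)).resolve_left (by rw [ow]; norm_num)
        have ou := orderOf_pow_orderOf_div (orderOf_pos y).ne' y3
        have cu : Commute (y ^ (orderOf y / 3)) w := (c.pow_right _).symm
        have := cong_val Nat.prime_three cA cu ⟨1, ou⟩ (v := α _) (w := α w) rfl rfl
        rw [v5 w ow, h.singA _ (by
          rw [cu.orderOf_mul_eq_mul_orderOf_of_coprime (by rw [ou, ow]; norm_num), ou]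
          exact dvd_mul_right _ _)] at this
        norm_num at this
      simp [χ, Fin.sum_univ_two, h.reg _ n3])
  have a2 := v5 x hs.ord
  have b3 : β x = 3 := by rw [h.reg x (by rw [hs.ord]; norm_num), a2]; rfl
  have b1 : β 1 = 8 := by rw [h.reg 1 (by simp), h.one]; rfl
  have mem : ∀ k, χ k ∈ principalBlock M G := by
    by_cases m0 : χ 0 ∈ principalBlock M G <;> by_cases m1 : χ 1 ∈ principalBlock M G <;>
      simp [Fin.sum_univ_two, m0, m1] at key
    · exact Fin.forall_fin_two.2 ⟨m0, m1⟩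
    all_goals
      simp [χ, a2, b3] at key
      norm_num at key
  have dz : ∀ k, ∀ v : ℤ, (χ k : G → ℂ) x = v → 1 < v → (χ k : G → ℂ) 1 = z0 D := fun k v hv v1 => by
    rcases (mem_principal_iff D hs hζ hM).1 (mem k) with m | m
    · rw [D.X_val _ m x (hs.ord ▸ dvd_rfl), Int.cast_inj] at hv
      rcases D.δ_sign _ m with e | e <;> omega
    · obtain ⟨c, e⟩ := (mem_Ys D).1 m
      rw [← e, Y_one]
  have e := (dz 0 2 (by simp [χ, a2]) (by norm_num)).trans (dz 1 3 (by simp [χ, b3]) (by norm_num)).symm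
  simp [χ, h.one, b1] at e

end CfsgLib.T35
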