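import Mathlib
import Cfsg.Agent.Lib.T35.Defs

/-! Project T35, package NT (proof in `plans/T35.md`). -/

set_option autoImplicit false

namespace CfsgLib.T35

open Cfsg CfsgLib.Char CfsgLib.Block Subgroup

theorem nt_geo {x : ℤ} (hx : Odd x) (m : ℕ) : ∃ S, Odd S ∧ x ^ (2 * m + 1) - 1 = (x - 1) * S := by
  induction m with
  | zero => exact ⟨1, odd_one, by ring⟩
  | succ m ih =>
    obtain ⟨S, h1, h2⟩ := ih
    exact ⟨x * x * S + (x + 1), ((hx.mul hx).mul h1).add_even (hx.add_odd odd_one),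
      by linear_combination x ^ 2 * h2⟩

theorem nt_form {q a b m : ℕ} (hq : q.Prime) (h : m ∣ 2 ^ a * 3 * 5 * q ^ b) (h3 : ¬ 3 ∣ m) :
    ∃ i k j, k ≤ 1 ∧ m = 2 ^ i * 5 ^ k * q ^ j := by
  rw [show 2 ^ a * 3 * 5 * q ^ b = 2 ^ a * 5 ^ 1 * q ^ b * 3 by ring] at h
  obtain ⟨u, v, hu, hv, rfl⟩ := exists_dvd_and_dvd_of_dvd_mul
    (((Nat.Prime.coprime_iff_not_dvd Nat.prime_three).2 h3).symm.dvd_of_dvd_mul_right h)
  obtain ⟨w, z, hw, hz, rfl⟩ := exists_dvd_and_dvd_of_dvd_mul hu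
  obtain ⟨i, -, rfl⟩ := (Nat.dvd_prime_pow Nat.prime_two).1 hw
  obtain ⟨k, hk, rfl⟩ := (Nat.dvd_prime_pow Nat.prime_five).1 hz
  obtain ⟨j, -, rfl⟩ := (Nat.dvd_prime_pow hq).1 hv
  exact ⟨i, k, j, hk, rfl⟩

/-- `± q ^ j - 1 = ± 2 ^ i 5 ^ k` with `j` odd -/
theorem nt_odd {x : ℤ} (hx : Odd x) (h5 : 5 ≤ |x|) {m i k : ℕ} (hm : 1 ≤ m) (hk : k ≤ 1)
    (h : |x ^ (2 * m + 1) - 1| = 2 ^ i * 5 ^ k) : False := by
  obtain ⟨S, h1, h2⟩ := nt_geo hx m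
  have h3 : (2 : ℤ) ^ i ∣ (x - 1) * S := by
    rw [← h2, ← dvd_abs, h]; exact dvd_mul_right _ _
  have h4 : (2 : ℤ) ^ i ∣ |x - 1| := (dvd_abs _ _).2
    ((Int.isCoprime_two_left.2 h1).pow_left.dvd_of_dvd_mul_right h3)
  have h6 : (2 : ℤ) ^ i ≤ |x - 1| := Int.le_of_dvd (abs_pos.2 fun e => by
    rw [sub_eq_zero.1 e] at h5; norm_num at h5) h4
  have h7 : |x - 1| ≤ |x| + 1 := by simpa using abs_sub x 1
  have h8 : |x| ^ 3 ≤ |x| ^ (2 * m + 1) := pow_le_pow_right₀ (by omega) (by omega)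
  have h9 : |x| ^ (2 * m + 1) - 1 ≤ |x ^ (2 * m + 1) - 1| := by
    simpa using abs_sub_abs_le_abs_sub (x ^ (2 * m + 1)) 1
  have h10 : (5 : ℤ) ^ k ≤ 5 := by interval_cases k <;> norm_num
  have h11 : (2 : ℤ) ^ i * 5 ^ k ≤ (|x| + 1) * 5 :=
    mul_le_mul (h6.trans h7) h10 (by positivity) (by positivity)
  nlinarith [mul_nonneg (sub_nonneg.2 h5) (mul_self_nonneg |x|), mul_nonneg (sub_nonneg.2 h5) (abs_nonneg x)]

theorem nt_pow {q j i k O E : ℕ} (hq : q.Prime) (h5 : 5 ≤ q) (hj : 2 ≤ j) (hk : k ≤ 1) (hO : O = q ^ j)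
    (hE : E = 2 ^ i * 5 ^ k) (h3 : ¬ 3 ∣ E) (h : O = E + 1 ∨ E = O + 1) : False := by
  have ho : Odd q := hq.odd_of_ne_two (by omega)
  have h3q : ¬ 3 ∣ q := fun e => by have := (Nat.prime_dvd_prime_iff_eq Nat.prime_three hq).1 e; omega
  obtain ⟨m, rfl | rfl⟩ := Nat.even_or_odd' j
  · have a3 : q ^ 2 ≡ 1 [MOD 3] := by
      have : q % 3 = 1 ∨ q % 3 = 2 := by omega
      rcases this with e | e <;> simp [Nat.ModEq, Nat.pow_mod, e]
    have a4 : q ^ 2 ≡ 1 [MOD 4] := by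
      have : q % 4 = 1 ∨ q % 4 = 3 := by obtain ⟨t, rfl⟩ := ho; omega
      rcases this with e | e <;> simp [Nat.ModEq, Nat.pow_mod, e]
    have b3 : O % 3 = 1 := by simpa [hO, pow_mul, Nat.ModEq] using a3.pow m
    have b4 : O % 4 = 1 := by simpa [hO, pow_mul, Nat.ModEq] using a4.pow m
    have b5 : 5 ^ 2 ≤ O := hO ▸ (Nat.pow_le_pow_left h5 2).trans (Nat.pow_le_pow_right (by omega) hj)
    rcases h with h | h
    · omega
    · have : i ≤ 1 := by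
        by_contra hi
        obtain ⟨l, rfl⟩ : ∃ l, i = l + 2 := ⟨i - 2, by omega⟩
        have : 4 ∣ E := hE ▸ Dvd.intro (2 ^ l * 5 ^ k) (by ring)
        omega
      interval_cases i <;> interval_cases k <;> omega
  · have hE' : (E : ℤ) = 2 ^ i * 5 ^ k := by exact_mod_cast hE
    have hO' : (O : ℤ) = q ^ (2 * m + 1) := by exact_mod_cast hO
    rcases h with h | h
    · refine nt_odd (x := q) (i := i) (by exact_mod_cast ho) (by simpa using h5) (m := m) (by omega) hk ?_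
      rw [← hO', ← hE', h]
      simp
    · refine nt_odd (x := -q) (i := i) (Odd.neg (by exact_mod_cast ho)) (by simpa using h5) (m := m)
        (by omega) hk ?_
      rw [Odd.neg_pow ⟨m, rfl⟩, ← hO', ← hE', h, ← neg_add', abs_neg]
      exact abs_of_nonneg (by positivity)

theorem nt_mod15 (i : ℕ) : (i % 4 = 0 → 2 ^ i % 15 = 1) ∧ (i % 4 = 1 → 2 ^ i % 15 = 2) ∧
    (i % 4 = 2 → 2 ^ i % 15 = 4) ∧ (i % 4 = 3 → 2 ^ i % 15 = 8) := by
  induction i with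
  | zero => simp
  | succ i ih => rw [pow_succ]; omega

theorem nt_five {q j i : ℕ} (hq : q.Prime) (h5 : 5 ≤ q) (hj : 1 ≤ j) (h : 2 ^ i + 1 = 5 * q ^ j) :
    q = 13 ∧ 2 ^ i = 64 := by
  have h1 := nt_mod15 i
  obtain ⟨k, rfl⟩ : ∃ k, i = 4 * k + 2 := ⟨i / 4, by omega⟩
  obtain ⟨s, hs⟩ : ∃ s, 2 ^ k = s + 1 := Nat.exists_eq_succ_of_ne_zero (by positivity)
  have e1 : 2 ^ (4 * k + 2) = 4 * (s + 1) ^ 4 := by rw [← hs]; ring
  have e2 : (2 * s ^ 2 + 2 * s + 1) * (2 * s ^ 2 + 6 * s + 5) = 5 * q ^ j := by rw [← h, e1]; ring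
  have q1 : q ≤ q ^ j := Nat.le_self_pow (by omega) q
  by_cases hA : q ∣ 2 * s ^ 2 + 2 * s + 1
  · have hB : ¬ q ∣ 2 * s ^ 2 + 6 * s + 5 := fun hB => by
      have : q ∣ 2 ^ (k + 2) := by
        rw [pow_add, hs, show (s + 1) * 2 ^ 2 = 2 * s ^ 2 + 6 * s + 5 - (2 * s ^ 2 + 2 * s + 1) by omega]
        exact Nat.dvd_sub hB hA
      have := Nat.le_of_dvd two_pos (hq.dvd_of_dvd_pow this)
      omega
    have := Nat.le_of_dvd (by norm_num) ((((Nat.Prime.coprime_iff_not_dvd hq).2 hB).symm.pow_right j).dvd_of_dvd_mul_right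
      (Dvd.intro_left _ e2))
    obtain rfl : s = 0 := by omega
    omega
  · have := Nat.le_of_dvd (by norm_num) ((((Nat.Prime.coprime_iff_not_dvd hq).2 hA).symm.pow_right j).dvd_of_dvd_mul_right
      (Dvd.intro _ e2))
    have : s ≤ 1 := by nlinarith
    interval_cases s
    · omega
    · have h13 : q ^ j = 13 := by omega
      refine ⟨(Nat.prime_dvd_prime_iff_eq hq (by norm_num)).1 (h13 ▸ dvd_pow_self q (by omega)), by omega⟩

theorem nt_key {q a b O E : ℕ} (hq : q.Prime) (h5 : 5 ≤ q) (hO : O ∣ 2 ^ a * 3 * 5 * q ^ b)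
    (hE : E ∣ 2 ^ a * 3 * 5 * q ^ b) (o3 : ¬ 3 ∣ O) (e3 : ¬ 3 ∣ E) (o2 : ¬ 2 ∣ O)
    (h : O = E + 1 ∨ E = O + 1) : O = 1 ∨ O = 5 ∨ O = q ∨ (q = 13 ∧ E = 64 ∧ O = 65) := by
  obtain ⟨i, k, j, hk, e⟩ := nt_form hq hO o3
  obtain ⟨i', k', j', hk', e'⟩ := nt_form hq hE e3
  have cop : ∀ r, 1 < r → r ∣ O → ¬ r ∣ E := fun r hr h1 h2 => by
    have : r ∣ 1 := h.elim (fun h => (Nat.dvd_add_right h2).1 (h ▸ h1)) fun h => (Nat.dvd_add_right h1).1 (h ▸ h2)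
    have := Nat.le_of_dvd one_pos this
    omega
  obtain rfl : i = 0 := by_contra fun hi => o2 (e ▸ ((dvd_pow_self 2 hi).mul_right _).mul_right _)
  rw [pow_zero, one_mul] at e
  rcases j.eq_zero_or_pos with rfl | hj
  · rw [pow_zero, mul_one] at e
    interval_cases k <;> omega
  obtain rfl : j' = 0 := by_contra fun hj' => cop q (by omega) (e ▸ (dvd_pow_self q hj.ne').mul_left _)
    (e' ▸ (dvd_pow_self q hj').mul_left _)
  rw [pow_zero, mul_one] at e'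
  interval_cases k
  · rw [pow_zero, one_mul] at e
    rcases (show 1 ≤ j from hj).eq_or_lt with rfl | hj
    · exact .inr (.inr (.inl (by simpa using e)))
    · exact (nt_pow hq h5 hj hk' e e' e3 h).elim
  · obtain rfl : k' = 0 := by_contra fun hk0 => cop 5 (by omega) (e ▸ dvd_mul_right _ _)
      (e' ▸ (dvd_pow_self 5 hk0).mul_left _)
    rw [pow_zero, mul_one] at e'
    rw [pow_one] at e
    rcases h with h | h
    · have := nt_five hq h5 hj (i := i') (by omega)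
      exact .inr (.inr (.inr ⟨this.1, by omega, by omega⟩))
    · have := nt_mod15 i'
      omega

theorem consec {q a b n : ℕ} (hq : q.Prime) (h5 : 5 ≤ q) (hn : 2 ≤ n) (h3 : n % 3 = 1)
    (h1 : n ∣ 2 ^ a * 3 * 5 * q ^ b) (h2 : n + 1 ∣ 2 ^ a * 3 * 5 * q ^ b) :
    n = q ∨ n + 1 = q ∨ n = 4 ∨ (q = 13 ∧ n = 64) := by
  by_cases h : 2 ∣ n
  · have := nt_key hq h5 h2 h1 (by omega) (by omega) (by omega) (.inl rfl)
    omega
  · have := nt_key hq h5 h1 h2 (by omega) (by omega) h (.inr rfl)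
    omega

end CfsgLib.T35
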