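import Mathlib
import Cfsg.Agent.Lib.T35.Defs
import Cfsg.Agent.Lib.Glaub.Cong
import Cfsg.Agent.Lib.T35.Blk

/-! Project T35, package Q13 (proof in `plans/T35.md`). -/

set_option autoImplicit false

namespace CfsgLib.T35

open Cfsg CfsgLib.Char CfsgLib.Block Subgroup

/-- An abelian group of order `169` has no integer valued character of degree `64` with values
`-1` or `25` at the elements of order `13`. -/
theorem q13_core {Q : Type*} [CommGroup Q] [Finite Q] (hQ : Nat.card Q = 13 ^ 2) {a : Q → ℤ}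
    (ha : IsCharacter Q fun g => (a g : ℂ)) (h1 : a 1 = 64)
    (h : ∀ g, orderOf g = 13 → a g = -1 ∨ a g = 25) : False := by
  classical
  have hp : Nat.Prime 13 := by norm_num
  have : Fact (Nat.Prime 13) := ⟨hp⟩
  letI : Fintype Q := Fintype.ofFinite Q
  obtain ⟨g, hg, hg'⟩ : ∃ g : Q, orderOf g = 13 ∧ (a g = -1 ∨ ∀ x, orderOf x = 13 → a x = 25) := by
    by_cases h' : ∃ g : Q, orderOf g = 13 ∧ a g = -1
    · obtain ⟨g, hg, hg'⟩ := h'
      exact ⟨g, hg, .inl hg'⟩
    · obtain ⟨g, hg⟩ := exists_prime_orderOf_dvd_card' (G := Q) 13 (by rw [hQ]; norm_num)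
      exact ⟨g, hg, .inr fun x hx => (h x hx).resolve_left fun e => h' ⟨x, hx, e⟩⟩
  set N := zpowers g with hN
  have hNc : Nat.card N = 13 := by rw [hN, Nat.card_zpowers, hg]
  have hNf : Fintype.card N = 13 := by rw [← Nat.card_eq_fintype_card, hNc]
  have hn13 : ∀ n : N, (n : Q) ^ 13 = 1 := fun n => by
    rw [← hNc, ← coe_pow, pow_card_eq_one', coe_one]
  have hψ := Glaub.isCharacter_avg N ha
  have val : ∀ (x : Q) (w : ℤ), ∑ n : N, a (n * x) = 13 * w →
      Glaub.avg N (fun g => (a g : ℂ)) x = w := fun x w e => by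
    rw [Glaub.avg_apply, hNc, ← Int.cast_sum, e]
    push_cast
    field_simp
  -- the value of `a` at a generator of the cyclic group generated by a `13`-element
  have pw : ∀ x y : Q, y ∈ zpowers x → (∀ k : ℕ, y ≠ (x ^ 13) ^ k) → a y = a x := fun x y hy hk => by
    obtain ⟨k, rfl⟩ := (mem_powers_iff_mem_zpowers.2 hy :)
    have h13 : ¬ 13 ∣ k := by
      rintro ⟨j, rfl⟩
      exact hk j (pow_mul _ _ _)
    have hc : k.Coprime (orderOf x) :=
      (((Nat.Prime.coprime_iff_not_dvd hp).2 h13).symm.pow_right 2).coprime_dvd_right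
        (hQ ▸ orderOf_dvd_natCard x)
    exact_mod_cast pow_val ha (g := x) (v := a x) rfl hc
  have hs1 : ∑ n : N, a (n * 1) = 64 + 12 * a g := by
    rw [← Finset.add_sum_erase _ _ (Finset.mem_univ (1 : N)), Finset.sum_congr rfl (g := fun _ => a g),
      Finset.sum_const, Finset.card_erase_of_mem (Finset.mem_univ _), Finset.card_univ, hNf]
    · simp [h1]
    · intro n hn
      rw [mul_one]
      refine pw g n n.2 fun k e => Finset.ne_of_mem_erase hn (Subtype.ext ?_)
      rw [e, ← hg, pow_orderOf_eq_one, one_pow, coe_one]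
  obtain ⟨x, hx⟩ : ∃ x : Q, x ∉ N := by
    by_contra hh
    push Not at hh
    rw [(eq_top_iff' N).2 hh, card_top, hQ] at hNc
    norm_num at hNc
  obtain ⟨i, -, hi⟩ := (Nat.dvd_prime_pow hp).1 (hQ ▸ orderOf_dvd_natCard x)
  obtain ⟨d, hd, hd'⟩ : ∃ d : ℤ, 64 + 12 * a g = 13 * d ∧ (a g = -1 ∧ d = 4 ∨ a g = 25 ∧ d = 28) := by
    rcases h g hg with e | e
    · exact ⟨4, by rw [e]; norm_num, .inl ⟨e, rfl⟩⟩
    · exact ⟨28, by rw [e]; norm_num, .inr ⟨e, rfl⟩⟩
  have hψ1 := val 1 d (hs1.trans hd)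
  have cong : ∀ w : ℤ, ∑ n : N, a (n * x) = 13 * w → (13 : ℤ) ∣ w - d := fun w e =>
    cong_val hp hψ (Commute.one_right x) ⟨i, hi⟩ (by rw [mul_one]; exact val x w e) hψ1
  have hconst : ∀ w : ℤ, (∀ n : N, a (n * x) = w) → ∑ n : N, a (n * x) = 13 * w := fun w e => by
    rw [Finset.sum_congr rfl fun n _ => e n, Finset.sum_const, Finset.card_univ, hNf]
    simp
  by_cases h13 : x ^ 13 = 1
  · have ho : ∀ n : N, orderOf (n * x : Q) = 13 := fun n =>
      orderOf_eq_prime (by rw [mul_pow, hn13, h13, one_mul]) fun e =>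
        hx (by rw [eq_inv_of_mul_eq_one_right e]; exact N.inv_mem n.2)
    rcases hg' with e | e
    · obtain ⟨K, hK⟩ : (26 : ℤ) ∣ ∑ n : N, (a (n * x) + 1) :=
        Finset.dvd_sum fun n _ => by rcases h _ (ho n) with e | e <;> rw [e] <;> norm_num
      rw [Finset.sum_add_distrib, Finset.sum_const, Finset.card_univ, hNf] at hK
      have h2 := val x (2 * K - 1) (by simp at hK; omega)
      have h3 : orderOf x = 13 := by simpa using ho 1
      obtain rfl : d = 4 := by omega
      obtain ⟨m, hm, hm'⟩ := eig_val hp hψ h3 h2 (n := 4) (by exact_mod_cast hψ1)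
      omega
    · have := cong 25 (hconst _ fun n => e _ (ho n))
      omega
  · have hi2 : i = 2 := by
      have h2 : i ≤ 2 := (Nat.pow_dvd_pow_iff_le_right hp.one_lt).1 (hi ▸ hQ ▸ orderOf_dvd_natCard x)
      by_contra hh
      exact h13 (orderOf_dvd_iff_pow_eq_one.1 (hi ▸ (pow_dvd_pow 13 (show i ≤ 1 by omega))))
    have htop : zpowers x = ⊤ := by
      rw [← card_eq_iff_eq_top, Nat.card_zpowers, hi, hi2, hQ]
    have h2 := cong (a x) (hconst _ fun n => pw x _ (htop ▸ mem_top _) fun k e => h13 (by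
      have h3 : ((n : Q) * x) ^ 13 = 1 := by
        rw [e, ← pow_mul, ← pow_mul, show 13 * (k * 13) = 13 ^ 2 * k by ring, pow_mul, ← hQ,
          pow_card_eq_one', one_pow]
      rwa [mul_pow, hn13, one_mul] at h3))
    have h3 : (13 : ℤ) ∣ a x - a 1 :=
      cong_val hp ha (Commute.one_right x) ⟨i, hi⟩ (by rw [mul_one]) rfl
    omega

variable {G : Type*} [Group G] [Finite G] [IsSimpleGroup G]

theorem q13_notMem (hG : ¬ IsMulCommutative G) (h169 : 13 ^ 2 ∣ Nat.card G) {α β : G → ℤ}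
    (h : B3 α β 64) {M : Ideal AlgInt} (hM : IsPModular 13 M) :
    (⟨_, h.irrB⟩ : IrrCharacter G) ∉ principalBlock M G := fun hβ => by
  have hp : Nat.Prime 13 := by norm_num
  obtain ⟨z, hz, hc⟩ := exists_central (G := G) hp ((dvd_pow_self 13 two_ne_zero).trans h169)
  have h1 : ((β 1 : ℤ) : ℂ) = (65 : ℕ) := by rw [h.reg 1 (by simp), h.one]; norm_num
  have h2 := cong_B0 hM hβ hc (v := β z) (i := 1) rfl h1 (by norm_num)
  obtain ⟨m, hm, hm'⟩ := eig_val hp (isCharacter_of_isIrr h.irrB) hz rfl h1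
  have h3 := abs_lt hG h.irrB (z := z) (by rintro rfl; simp at hz) rfl h1 (by norm_num)
  rw [_root_.abs_lt] at h3
  omega

theorem q13_val (hG : ¬ IsMulCommutative G) (h169 : 13 ^ 2 ∣ Nat.card G) {α β : G → ℤ}
    (h : B3 α β 64) {g : G} (hg : orderOf g = 13) : α g = -1 ∨ α g = 25 := by
  classical
  have hp : Nat.Prime 13 := by norm_num
  have h1 : ((α 1 : ℤ) : ℂ) = (64 : ℕ) := by rw [h.one]; norm_num
  have hα := isCharacter_of_isIrr h.irrA
  obtain ⟨m, hm, hm'⟩ := eig_val hp hα hg rfl h1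
  have h3 := abs_lt hG h.irrA (z := g) (by rintro rfl; simp at hg) rfl h1 (by norm_num)
  rw [_root_.abs_lt] at h3
  by_cases hu : ∃ u : G, orderOf u = 3 ∧ Commute u g
  · obtain ⟨u, hu, hc⟩ := hu
    have h4 : α (u * g) = 1 := h.singA _ (by
      rw [hc.orderOf_mul_eq_mul_orderOf_of_coprime (by rw [hu, hg]; norm_num), hu]
      exact dvd_mul_right _ _)
    have h5 := cong_val Nat.prime_three hα hc ⟨1, by rw [hu, pow_one]⟩ (v := α (u * g)) rfl rfl
    omega
  · obtain ⟨M, hM⟩ := exists_isPModular' hp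
    have h4 := part_eq_zero hM ![⟨_, h.irrA⟩, ⟨_, h.irrB⟩] ![1, -1]
      ![if (⟨_, h.irrA⟩ : IrrCharacter G) ∈ principalBlock M G then 1 else 0, 0]
      (fun k => by
        fin_cases k
        · by_cases e : (⟨_, h.irrA⟩ : IrrCharacter G) ∈ principalBlock M G
          · exact .inl ⟨e, if_pos e⟩
          · exact .inr ⟨e, if_neg e⟩
        · exact .inr ⟨q13_notMem hG h169 h hM, rfl⟩)
      (isPPart_self hp (x := g) ⟨1, by rw [hg, pow_one]⟩) fun y w hy hw => by
        have h5 : ¬ 3 ∣ orderOf y := fun h5 => by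
          obtain ⟨c, rfl⟩ := isConj_iff.1 hw
          have h6 := (isPPart_commute hp hy).pow_left (orderOf y / 3)
          refine hu ⟨c⁻¹ * y ^ (orderOf y / 3) * c, ?_, ?_⟩
          · have h7 := ((MulAut.conj c⁻¹).orderOf_eq _).trans
              (orderOf_pow_orderOf_div (orderOf_pos y).ne' h5)
            simpa using h7
          · have h7 := h6.map (MulAut.conj c⁻¹)
            simpa [mul_assoc] using h7
        simp [Fin.sum_univ_two, h.reg y h5]
    rw [Fin.sum_univ_two] at h4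
    left
    by_cases e : (⟨_, h.irrA⟩ : IrrCharacter G) ∈ principalBlock M G
    · simp only [if_pos e, Matrix.cons_val_zero, Matrix.cons_val_one, Int.cast_one, Int.cast_zero,
        one_mul, zero_mul, add_zero] at h4
      have : 1 + α g = 0 := by exact_mod_cast h4
      omega
    · simp [if_neg e] at h4

theorem q13 (hG : ¬ IsMulCommutative G) (h169 : 13 ^ 2 ∣ Nat.card G) {α β : G → ℤ}
    (h : B3 α β 64) : False := by
  have : Fact (Nat.Prime 13) := ⟨by norm_num⟩
  obtain ⟨Q, hQ⟩ := Sylow.exists_subgroup_card_pow_prime 13 h169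
  letI : CommGroup Q := IsPGroup.commGroupOfCardEqPrimeSq hQ
  exact q13_core hQ (a := fun x => α x) (isCharacter_comp Q.subtype (isCharacter_of_isIrr h.irrA))
    h.one fun g hg => q13_val hG h169 h ((orderOf_coe g).trans hg)

end CfsgLib.T35
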